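import Mathlib

/-! Locally closed points of locally noetherian schemes (EGA IV 10.5). -/

set_option autoImplicit false
universe u

open AlgebraicGeometry CategoryTheory TopologicalSpace

namespace Groth.Agent.JacLib

/-- In a noetherian domain in which a nonzero element lies in all nonzero primes, nonzero primes are
minimal over that element. -/
theorem mem_minimalPrimes_of_ne_bot {A : Type u} [CommRing A] [IsDomain A] [IsNoetherianRing A]
    {f : A} (hf : f ≠ 0) (h : ∀ P : Ideal A, P.IsPrime → P ≠ ⊥ → f ∈ P)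
    (Q : Ideal A) [Q.IsPrime] (hQ : Q ≠ ⊥) : Q ∈ (Ideal.span {f}).minimalPrimes := by
  classical
  obtain ⟨P, hP, hPQ⟩ := Ideal.exists_minimalPrimes_le
    (show Ideal.span {f} ≤ Q from (Ideal.span_singleton_le_iff_mem _).mpr (h Q inferInstance hQ))
  by_cases hPQ' : P = Q
  · exact hPQ' ▸ hP
  exfalso
  have hfin := (Ideal.span {f}).finite_minimalPrimes_of_isNoetherianRing (R := A)
  obtain ⟨a, haQ, ha⟩ : ∃ a ∈ Q, ∀ S ∈ (Ideal.span {f}).minimalPrimes, a ∉ S := by
    by_contra! hc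
    have hsub : (Q : Set A) ⊆ ⋃ S ∈ (↑hfin.toFinset : Set (Ideal A)), ↑S := by
      intro a ha
      obtain ⟨S, hS, haS⟩ := hc a ha
      exact Set.mem_biUnion (by simpa using hS) haS
    obtain ⟨S, hS, hQS⟩ := (Ideal.subset_union_prime (s := hfin.toFinset) ⊥ ⊥
      (fun S hS _ _ => (hfin.mem_toFinset.mp hS).isPrime)).mp hsub
    have hS' := hfin.mem_toFinset.mp hS
    exact hPQ' (le_antisymm hPQ (hQS.trans (hS'.2 hP.1 (hPQ.trans hQS))))
  have ha0 : a ≠ 0 := fun h0 => ha P hP (h0 ▸ P.zero_mem)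
  obtain ⟨R, hR, -⟩ := Ideal.exists_minimalPrimes_le
    (show Ideal.span {a} ≤ Q from (Ideal.span_singleton_le_iff_mem _).mpr haQ)
  haveI := hR.isPrime
  have haR : a ∈ R := (Ideal.span_singleton_le_iff_mem _).mp hR.1.2
  have hR0 : R ≠ ⊥ := fun h0 => ha0 (by simpa [h0] using haR)
  obtain ⟨S, hS, hSR⟩ := Ideal.exists_minimalPrimes_le
    (show Ideal.span {f} ≤ R from (Ideal.span_singleton_le_iff_mem _).mpr (h R inferInstance hR0))
  haveI := hS.isPrime
  rcases hSR.lt_or_eq with hlt | heq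
  · have hS0 : (⊥ : Ideal A) < S := bot_lt_iff_ne_bot.mpr fun h0 =>
      hf (by simpa [h0] using (Ideal.span_singleton_le_iff_mem _).mp hS.1.2)
    have h1 := Ideal.height_add_one_le_of_lt_of_isPrime hS0
    have h2 := Ideal.height_add_one_le_of_lt_of_isPrime hlt
    have h3 := Ideal.height_le_one_of_isPrincipal_of_mem_minimalPrimes (Ideal.span {a}) R hR
    have h4 : (1 : ℕ∞) ≤ S.height := le_trans (le_add_self) h1
    have h5 : (1 : ℕ∞) + 1 ≤ 1 := (add_le_add_left h4 1).trans (h2.trans h3)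
    exact absurd h5 (by decide)
  · exact ha S hS (heq ▸ haR)

theorem isMaximal_of_ne_bot {A : Type u} [CommRing A] [IsDomain A] [IsNoetherianRing A]
    {f : A} (hf : f ≠ 0) (h : ∀ P : Ideal A, P.IsPrime → P ≠ ⊥ → f ∈ P)
    (Q : Ideal A) [Q.IsPrime] (hQ : Q ≠ ⊥) : Q.IsMaximal := by
  obtain ⟨M, hM, hQM⟩ := Q.exists_le_maximal Ideal.IsPrime.ne_top'
  have hM0 : M ≠ ⊥ := fun h0 => hQ (le_bot_iff.mp (h0 ▸ hQM))
  haveI := hM.isPrime
  have h1 := mem_minimalPrimes_of_ne_bot hf h Q hQ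
  have h2 := mem_minimalPrimes_of_ne_bot hf h M hM0
  exact (le_antisymm hQM (h2.2 h1.1 hQM)) ▸ hM

theorem finite_maximalSpectrum {A : Type u} [CommRing A] [IsDomain A] [IsNoetherianRing A]
    {f : A} (hf : f ≠ 0) (h : ∀ P : Ideal A, P.IsPrime → P ≠ ⊥ → f ∈ P) :
    Finite (MaximalSpectrum A) := by
  have hfin := ((Ideal.span {f}).finite_minimalPrimes_of_isNoetherianRing (R := A)).insert ⊥
  haveI := hfin.to_subtype
  refine Finite.of_injective (β := ↥(insert ⊥ (Ideal.span {f}).minimalPrimes))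
    (fun M => ⟨M.asIdeal, ?_⟩) fun M N hMN => MaximalSpectrum.ext (congrArg Subtype.val hMN)
  haveI := M.isMaximal.isPrime
  exact (em (M.asIdeal = ⊥)).imp id fun h0 => mem_minimalPrimes_of_ne_bot hf h _ h0

/-- A locally closed point of a prime spectrum: an element outside it lying in all larger primes. -/
theorem exists_mem_of_isLocallyClosed {A : Type u} [CommRing A] (p : PrimeSpectrum A)
    (hp : IsLocallyClosed ({p} : Set (PrimeSpectrum A))) :
    ∃ f : A, f ∉ p.asIdeal ∧ ∀ q : PrimeSpectrum A, p.asIdeal < q.asIdeal → f ∈ q.asIdeal := by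
  obtain ⟨U, F, hU, hF, hUF⟩ := hp
  have hpm : p ∈ U ∩ F := hUF ▸ Set.mem_singleton p
  obtain ⟨_, ⟨f, rfl⟩, hpf, hfU⟩ :=
    PrimeSpectrum.isTopologicalBasis_basic_opens.exists_subset_of_mem_open hpm.1 hU
  refine ⟨f, hpf, fun q hq => ?_⟩
  by_contra hfq
  have hqF : q ∈ F := ((PrimeSpectrum.le_iff_specializes p q).mp hq.le).mem_closed hF hpm.2
  have : q = p := hUF.ge (show q ∈ U ∩ F from ⟨hfU hfq, hqF⟩)
  exact hq.ne (congrArg PrimeSpectrum.asIdeal this.symm)

theorem quotient_hf {A : Type u} [CommRing A] (p : Ideal A) [p.IsPrime] {f : A} (hf : f ∉ p)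
    (h : ∀ q : PrimeSpectrum A, p < q.asIdeal → f ∈ q.asIdeal) :
    Ideal.Quotient.mk p f ≠ 0 ∧
      ∀ P : Ideal (A ⧸ p), P.IsPrime → P ≠ ⊥ → Ideal.Quotient.mk p f ∈ P := by
  refine ⟨fun h0 => hf (Ideal.Quotient.eq_zero_iff_mem.mp h0), fun P hP hP0 => ?_⟩
  refine h ⟨P.comap (Ideal.Quotient.mk p), inferInstance⟩ (lt_of_le_of_ne ?_ ?_)
  · intro a ha
    show Ideal.Quotient.mk p a ∈ P
    rw [Ideal.Quotient.eq_zero_iff_mem.mpr ha]
    exact P.zero_mem
  · intro he
    apply hP0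
    rw [← Ideal.map_comap_of_surjective (Ideal.Quotient.mk p) Ideal.Quotient.mk_surjective P]
    exact le_bot_iff.mp ((Ideal.map_mono he.ge).trans (le_of_eq (Ideal.map_quotient_self p)))

/-- Affine points: any specialization, other than itself, of a locally closed point is a maximal ideal. -/
theorem isMax_of_isLocallyClosed {A : Type u} [CommRing A] [IsNoetherianRing A]
    (p q : PrimeSpectrum A) (hp : IsLocallyClosed ({p} : Set (PrimeSpectrum A)))
    (hpq : p.asIdeal < q.asIdeal) : q.asIdeal.IsMaximal := by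
  obtain ⟨f, hf, h⟩ := exists_mem_of_isLocallyClosed p hp
  obtain ⟨hf', h'⟩ := quotient_hf p.asIdeal hf h
  have hle : RingHom.ker (Ideal.Quotient.mk p.asIdeal) ≤ q.asIdeal := by
    rw [Ideal.mk_ker]; exact hpq.le
  haveI : (q.asIdeal.map (Ideal.Quotient.mk p.asIdeal)).IsPrime :=
    Ideal.map_isPrime_of_surjective Ideal.Quotient.mk_surjective hle
  have hmax := isMaximal_of_ne_bot hf' h' (q.asIdeal.map (Ideal.Quotient.mk p.asIdeal))
    (fun h0 => hpq.not_ge (by
      intro a ha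
      exact Ideal.Quotient.eq_zero_iff_mem.mp
        (Ideal.mem_bot.mp (h0 ▸ Ideal.mem_map_of_mem (Ideal.Quotient.mk p.asIdeal) ha))))
  have := Ideal.comap_map_of_surjective (Ideal.Quotient.mk p.asIdeal) Ideal.Quotient.mk_surjective q.asIdeal
  rw [← RingHom.ker_eq_comap_bot, sup_eq_left.mpr hle] at this
  rw [← this]
  exact Ideal.comap_isMaximal_of_surjective _ Ideal.Quotient.mk_surjective

/-- EGA IV 10.5.3: in a locally noetherian scheme every specialization, other than itself, of a locally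
closed point is a closed point. -/
theorem isClosed_singleton_of_specializes {X : Scheme.{u}} [IsLocallyNoetherian X] {x z : X}
    (hx : IsLocallyClosed ({x} : Set X)) (hxz : x ⤳ z) (hne : z ≠ x) :
    IsClosed ({z} : Set X) := by
  rw [← closure_eq_iff_isClosed]
  refine Set.Subset.antisymm (fun w hw => ?_) subset_closure
  by_contra hwz
  have hzw : z ⤳ w := specializes_iff_mem_closure.mpr hw
  obtain ⟨W, hW, hwW, -⟩ := exists_isAffineOpen_mem_and_subset (U := ⊤) (Opens.mem_top w)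
  have hzW : z ∈ W := hzw.mem_open W.2 hwW
  have hxW : x ∈ W := hxz.mem_open W.2 hzW
  haveI := IsLocallyNoetherian.component_noetherian (X := X) ⟨W, hW⟩
  obtain ⟨p, rfl⟩ : x ∈ Set.range hW.fromSpec := hW.range_fromSpec.ge hxW
  obtain ⟨q, rfl⟩ : z ∈ Set.range hW.fromSpec := hW.range_fromSpec.ge hzW
  obtain ⟨r, rfl⟩ : w ∈ Set.range hW.fromSpec := hW.range_fromSpec.ge hwW
  have hind := hW.fromSpec.isOpenEmbedding.isInducing
  rw [hind.specializes_iff] at hxz hzw
  have hp : IsLocallyClosed ({p} : Set (PrimeSpectrum Γ(X, W))) := by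
    have := hx.preimage hW.fromSpec.continuous
    rwa [← Set.image_singleton, Set.preimage_image_eq _ hW.fromSpec.isOpenEmbedding.injective] at this
  have hpq : p.asIdeal < q.asIdeal := lt_of_le_of_ne ((PrimeSpectrum.le_iff_specializes p q).mpr hxz)
    fun he => hne (by rw [PrimeSpectrum.ext he])
  have hqmax := isMax_of_isLocallyClosed p q hp hpq
  have := hqmax.eq_of_le r.2.ne_top ((PrimeSpectrum.le_iff_specializes q r).mpr hzw)
  exact hwz (by rw [PrimeSpectrum.ext this]; rfl)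

/-- Every nonempty locally closed subset of a locally noetherian scheme contains a point which is
locally closed in the scheme. -/
theorem exists_isLocallyClosed_singleton {X : Scheme.{u}} [IsLocallyNoetherian X] {Z : Set X}
    (hZ : IsLocallyClosed Z) (hne : Z.Nonempty) : ∃ x ∈ Z, IsLocallyClosed ({x} : Set X) := by
  obtain ⟨z, hz⟩ := hne
  obtain ⟨U, F, hU, hF, rfl⟩ := hZ
  obtain ⟨W, hW, hzW, hWU⟩ := exists_isAffineOpen_mem_and_subset (U := ⟨U, hU⟩) hz.1
  obtain ⟨p, rfl⟩ : z ∈ Set.range hW.fromSpec := hW.range_fromSpec.ge hzW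
  obtain ⟨q, hq, hqc⟩ := (hF.preimage hW.fromSpec.continuous).exists_closed_singleton ⟨p, hz.2⟩
  refine ⟨hW.fromSpec q, ⟨hWU (hW.range_fromSpec.le ⟨q, rfl⟩), hq⟩, ?_⟩
  have := hqc.isLocallyClosed.image hW.fromSpec.isOpenEmbedding.isInducing
    hW.fromSpec.isOpenEmbedding.isOpen_range.isLocallyClosed
  rwa [Set.image_singleton] at this

end Groth.Agent.JacLib
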